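import Groth.Agent.EtBCLoc.Restrict
import Groth.Agent.EtPBC0.StrictBC

/-!
# Base change in degree zero is local for the etale topology
-/

set_option autoImplicit false
set_option linter.style.haveILetI false

universe u

open CategoryTheory CategoryTheory.Limits AlgebraicGeometry Opposite TopologicalSpace
open Groth.Agent.BigSiteLib.DescSec Groth.Agent.EtH0Lib Groth.Agent.EtPBC0

namespace Groth.Agent.EtBCLoc

set_option backward.isDefEq.respectTransparency false
set_option backward.isDefEq.respectTransparency.types false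

variable {X S Y T : Scheme.{u}} {f : X ⟶ S} {g : T ⟶ S} {h : Y ⟶ X} {e : Y ⟶ T}
  (c : IsPullback e h g f) (F : EtDesc.Sh T) (U : X.Etale) (V : S.Etale) (a : U.left ⟶ V.left)
  (ha : a ≫ V.hom = U.hom ≫ f)

include ha in
theorem resK_cond {E' : U.left.Etale} {W' : V.left.Etale} (k' : E' ⟶ (EtCoh.bc a).obj W') :
    (k'.left ≫ pullback.fst W'.hom a) ≫ (res V W').hom = (res U E').hom ≫ f := by
  show (k'.left ≫ pullback.fst W'.hom a) ≫ W'.hom ≫ V.hom = (E'.hom ≫ U.hom) ≫ f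
  rw [Category.assoc, pullback.condition_assoc, ha, ← Category.assoc, ← Category.assoc]
  exact congrArg (fun k => (k ≫ U.hom) ≫ f) (MorphismProperty.Over.w k')

/-- A map over the piece as a map over the total space. -/
noncomputable def resK {E' : U.left.Etale} {W' : V.left.Etale} (k' : E' ⟶ (EtCoh.bc a).obj W') :
    res U E' ⟶ (EtCoh.bc f).obj (res V W') :=
  MorphismProperty.Over.homMk (pullback.lift (k'.left ≫ pullback.fst W'.hom a) (res U E').hom (resK_cond U V a ha k'))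
    (pullback.lift_snd _ _ _)

theorem resK_fst {E' : U.left.Etale} {W' : V.left.Etale} (k' : E' ⟶ (EtCoh.bc a).obj W') :
    (resK U V a ha k').left ≫ pullback.fst (res V W').hom f = k'.left ≫ pullback.fst W'.hom a :=
  pullback.lift_fst _ _ _

/-- The structure map of a morphism into a double base change. -/
theorem double_hom {A B C : Scheme.{u}} {p : C ⟶ B} {q : B ⟶ A} {r : C ⟶ A} (w : p ≫ q = r) {D : C.Etale} {W : A.Etale}
    (m : D ⟶ (EtCoh.bc p).obj ((EtCoh.bc q).obj W)) :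
    (m.left ≫ pullback.fst ((EtCoh.bc q).obj W).hom p ≫ pullback.fst W.hom q) ≫ W.hom = D.hom ≫ r := by
  have h₁ : (m.left ≫ pullback.fst ((EtCoh.bc q).obj W).hom p) ≫ pullback.snd W.hom q = D.hom ≫ p := by
    refine (Category.assoc _ _ _).trans ((congrArg (m.left ≫ ·)
      (pullback.condition (f := ((EtCoh.bc q).obj W).hom) (g := p))).trans ?_)
    exact (Category.assoc _ _ _).symm.trans (congrArg (· ≫ p) (MorphismProperty.Over.w m))
  rw [← w, Category.assoc, Category.assoc, pullback.condition, ← Category.assoc, ← Category.assoc, h₁, Category.assoc]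

section piece

variable {Ti Yi : Scheme.{u}} {gi : Ti ⟶ V.left} {ti : Ti ⟶ T} (cT : IsPullback ti gi g V.hom)
  {hi : Yi ⟶ U.left} {ei : Yi ⟶ Ti} (cY : IsPullback ei hi gi a)
  (q : Yi ⟶ Y) (sqY : IsPullback q hi h U.hom) (hqe : q ≫ e = ei ≫ ti)

/-- Sections over a piece of the target of the base change, on the piece. -/
noncomputable def theta (E' : U.left.Etale)
    (y : ToType (((EtDesc.pullSh e).obj F).obj.obj (op ((EtCoh.bc h).obj (res U E'))))) :
    ((EtDesc.pullSh (ei ≫ ti)).obj F).obj.obj (op ((EtCoh.bc hi).obj E')) :=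
  (EtDesc.pullVia q e (ei ≫ ti) hqe F).hom.hom.app (op ((EtCoh.bc hi).obj E'))
    (resSec U sqY ((EtDesc.pullSh e).obj F) E' y)

/-- Sections of the target of the base change of the piece. -/
noncomputable def psi' (E' : U.left.Etale)
    (y : ToType (((EtDesc.pullSh ei).obj ((EtDesc.pullSh ti).obj F)).obj.obj (op ((EtCoh.bc hi).obj E')))) :
    ((EtDesc.pullSh (ei ≫ ti)).obj F).obj.obj (op ((EtCoh.bc hi).obj E')) :=
  (EtDesc.pullVia ei ti (ei ≫ ti) rfl F).hom.hom.app (op ((EtCoh.bc hi).obj E')) y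

theorem bijective_app_iso {R : Scheme.{u}} {A B : EtDesc.Sh R} (α : A ≅ B) (D : R.Etale) :
    Function.Bijective (α.hom.hom.app (op D)) :=
  (((sheafToPresheaf _ _).mapIso α).app (op D)).toEquiv.bijective

theorem theta_bijective (E' : U.left.Etale) : Function.Bijective (theta F U q sqY hqe E') :=
  (bijective_app_iso _ _).comp (resSec_bijective U sqY _ E')

theorem psi'_bijective (E' : U.left.Etale) : Function.Bijective (psi' F U (ti := ti) (hi := hi) (ei := ei) E') :=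
  bijective_app_iso _ _

theorem theta_natural {E₁ E₂ : U.left.Etale} (l : E₁ ⟶ E₂)
    (y : ToType (((EtDesc.pullSh e).obj F).obj.obj (op ((EtCoh.bc h).obj (res U E₂))))) :
    ((EtDesc.pullSh (ei ≫ ti)).obj F).obj.map ((EtCoh.bc hi).map l).op (theta F U q sqY hqe E₂ y) =
      theta F U q sqY hqe E₁ (((EtDesc.pullSh e).obj F).obj.map ((EtCoh.bc h).map (resMap U l)).op y) := by
  rw [theta, theta, ← NatTrans.naturality_apply, resSec_natural]

theorem psi'_natural {E₁ E₂ : U.left.Etale} (l : E₁ ⟶ E₂)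
    (y : ToType (((EtDesc.pullSh ei).obj ((EtDesc.pullSh ti).obj F)).obj.obj (op ((EtCoh.bc hi).obj E₂)))) :
    ((EtDesc.pullSh (ei ≫ ti)).obj F).obj.map ((EtCoh.bc hi).map l).op (psi' F U E₂ y) =
      psi' F U E₁ (((EtDesc.pullSh ei).obj ((EtDesc.pullSh ti).obj F)).obj.map ((EtCoh.bc hi).map l).op y) := by
  rw [psi', psi', ← NatTrans.naturality_apply]

theorem theta_key {E' : U.left.Etale} {W' : V.left.Etale} (k' : E' ⟶ (EtCoh.bc a).obj W')
    (x : ToType (F.obj.obj (op ((EtCoh.bc g).obj (res V W'))))) :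
    theta F U q sqY hqe E' (((EtDesc.pullSh e).obj F).obj.map
        ((EtCoh.bc h).map (resK U V a ha k') ≫ EtFound.bcSquare c.w (res V W')).op (up e F _ x)) =
      psi' F U E' (((EtDesc.pullSh ei).obj ((EtDesc.pullSh ti).obj F)).obj.map
        ((EtCoh.bc hi).map k' ≫ EtFound.bcSquare cY.w W').op
          (up ei ((EtDesc.pullSh ti).obj F) _ (resSec V cT F W' x))) := by
  let M := (EtCoh.bc h).map (resK U V a ha k') ≫ EtFound.bcSquare c.w (res V W')
  let N := (EtCoh.bc hi).map k' ≫ EtFound.bcSquare cY.w W'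
  let m₁ : (EtCoh.bc hi).obj E' ⟶ (EtCoh.bc q).obj ((EtCoh.bc e).obj ((EtCoh.bc g).obj (res V W'))) :=
    resJ U sqY E' ≫ (EtCoh.bc q).map M
  let m₂ : (EtCoh.bc hi).obj E' ⟶ (EtCoh.bc ei).obj ((EtCoh.bc ti).obj ((EtCoh.bc g).obj (res V W'))) :=
    N ≫ (EtCoh.bc ei).map (resJ V cT W')
  rw [theta, psi', resSec, resSec, up_map, up_map, mapF, mapF]
  show (EtDesc.pullVia q e (ei ≫ ti) hqe F).hom.hom.app _ (((EtDesc.pullSh q).obj ((EtDesc.pullSh e).obj F)).obj.map m₁.op _) =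
    (EtDesc.pullVia ei ti (ei ≫ ti) rfl F).hom.hom.app _ (((EtDesc.pullSh ei).obj ((EtDesc.pullSh ti).obj F)).obj.map m₂.op _)
  let σ := m₂.left ≫ pullback.fst ((EtCoh.bc ti).obj ((EtCoh.bc g).obj (res V W'))).hom ei ≫
    pullback.fst ((EtCoh.bc g).obj (res V W')).hom ti
  let m₀ : (EtCoh.bc hi).obj E' ⟶ (EtCoh.bc (ei ≫ ti)).obj ((EtCoh.bc g).obj (res V W')) :=
    MorphismProperty.Over.homMk (pullback.lift σ ((EtCoh.bc hi).obj E').hom (double_hom rfl m₂)) (pullback.lift_snd _ _ _)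
  rw [pullVia_map_up_gen ei ti (ei ≫ ti) rfl F _ m₂ m₀ (pullback.lift_fst _ _ _)]
  refine pullVia_map_up_gen q e (ei ≫ ti) hqe F _ m₁ m₀ ?_ x
  refine (pullback.lift_fst _ _ _).trans (pullback.hom_ext ?_ ?_)
  · have eN : (N.left ≫ pullback.fst ((EtCoh.bc gi).obj W').hom ei) ≫ pullback.fst W'.hom gi =
        (pullback.fst E'.hom hi ≫ k'.left) ≫ pullback.fst W'.hom a := by
      show ((((EtCoh.bc hi).map k').left ≫ (EtFound.bcSquare cY.w W').left) ≫ _) ≫ _ = _
      simp only [Category.assoc]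
      refine (congrArg (((EtCoh.bc hi).map k').left ≫ ·) (EtFound.bcSquare_fst cY.w W')).trans ?_
      exact (Category.assoc _ _ _).symm.trans ((congrArg (· ≫ pullback.fst W'.hom a) (pullback.lift_fst _ _ _)).trans
        (Category.assoc _ _ _))
    have eM : (M.left ≫ pullback.fst ((EtCoh.bc g).obj (res V W')).hom e) ≫ pullback.fst (res V W').hom g =
        pullback.fst (res U E').hom h ≫ k'.left ≫ pullback.fst W'.hom a := by
      show ((((EtCoh.bc h).map (resK U V a ha k')).left ≫ (EtFound.bcSquare c.w (res V W')).left) ≫ _) ≫ _ = _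
      simp only [Category.assoc]
      refine (congrArg (((EtCoh.bc h).map (resK U V a ha k')).left ≫ ·) (EtFound.bcSquare_fst c.w (res V W'))).trans ?_
      refine (Category.assoc _ _ _).symm.trans ((congrArg (· ≫ pullback.fst (res V W').hom f)
        (pullback.lift_fst _ _ _)).trans ((Category.assoc _ _ _).trans ?_))
      exact congrArg (pullback.fst (res U E').hom h ≫ ·) (resK_fst U V a ha k')
    have e₁ : m₁.left ≫ pullback.fst ((EtCoh.bc e).obj ((EtCoh.bc g).obj (res V W'))).hom q =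
        resFst U sqY E' ≫ M.left := by
      show ((resJ U sqY E').left ≫ ((EtCoh.bc q).map M).left) ≫ _ = _
      refine (Category.assoc _ _ _).trans ((congrArg ((resJ U sqY E').left ≫ ·) (pullback.lift_fst _ _ _)).trans ?_)
      exact (Category.assoc _ _ _).symm.trans (congrArg (· ≫ M.left) (resJ_fst U sqY E'))
    have e₂ : m₂.left ≫ pullback.fst ((EtCoh.bc ti).obj ((EtCoh.bc g).obj (res V W'))).hom ei =
        (N.left ≫ pullback.fst ((EtCoh.bc gi).obj W').hom ei) ≫ (resJ V cT W').left := by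
      show (N.left ≫ ((EtCoh.bc ei).map (resJ V cT W')).left) ≫ _ = _
      exact (Category.assoc _ _ _).trans ((congrArg (N.left ≫ ·) (pullback.lift_fst _ _ _)).trans (Category.assoc _ _ _).symm)
    show (m₂.left ≫ _ ≫ _) ≫ _ = (m₁.left ≫ _ ≫ _) ≫ _
    rw [← Category.assoc m₂.left, e₂, ← Category.assoc m₁.left, e₁]
    simp only [Category.assoc] at eM eN ⊢
    rw [reassoc_of% (resJ_fst V cT W'), resFst_fst, eM, reassoc_of% (resFst_fst U sqY E')]
    exact eN
  · exact (double_hom rfl m₂).trans (double_hom hqe m₁).symm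

variable {Ω : Type u} [Field Ω] [IsSepClosed Ω]

/-- A point of a piece, seen over the total space. -/
noncomputable def resPt {ξ' : Spec (CommRingCat.of Ω) ⟶ U.left} {E' : U.left.Etale}
    (t : (Scheme.pointSmallEtale ξ').fiber.obj E') : (Scheme.pointSmallEtale (ξ' ≫ U.hom)).fiber.obj (res U E') :=
  CategoryTheory.Over.homMk (t.left : Spec (CommRingCat.of Ω) ⟶ E'.left)
    ((Category.assoc _ _ _).symm.trans (congrArg (· ≫ U.hom) (CategoryTheory.Over.w t)))

include c cT cY q sqY hqe ha in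
/-- Bijectivity at the points of a piece. -/
theorem bijective_stalk_piece
    (hloc : IsIso (EtBC.baseChange0Sh gi a hi ei cY.w ((EtDesc.pullSh ti).obj F)))
    (ξ' : Spec (CommRingCat.of Ω) ⟶ U.left) :
    Function.Bijective ((Scheme.pointSmallEtale (ξ' ≫ U.hom)).presheafFiber.map
      (EtBC.baseChange0Sh g f h e c.w F).hom) := by
  let β := EtBC.baseChange0Sh g f h e c.w F
  let βi := EtBC.baseChange0Sh gi a hi ei cY.w ((EtDesc.pullSh ti).obj F)
  haveI : IsIso βi.hom := inferInstanceAs (IsIso ((sheafToPresheaf _ _).map βi))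
  have hβi : Function.Bijective ((Scheme.pointSmallEtale ξ').presheafFiber.map βi.hom) :=
    (ConcreteCategory.isIso_iff_bijective ((Scheme.pointSmallEtale ξ').presheafFiber.map βi.hom)).1 inferInstance
  let ξ := ξ' ≫ U.hom
  let v₀ : (Scheme.pointSmallEtale (ξ ≫ f)).fiber.obj V := CategoryTheory.Over.homMk (ξ' ≫ a)
    ((Category.assoc _ _ _).trans ((congrArg (ξ' ≫ ·) ha).trans (Category.assoc _ _ _).symm))
  have hβ : ∀ {E' : U.left.Etale} {W' : V.left.Etale} (k' : E' ⟶ (EtCoh.bc a).obj W')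
      (x : ToType (F.obj.obj (op ((EtCoh.bc g).obj (res V W'))))),
      β.hom.app (op (res U E')) (((EtDesc.pullSh f).obj ((EtDesc.pushSh g).obj F)).obj.map (resK U V a ha k').op
          (up f _ (res V W') x)) =
        ((EtDesc.pullSh e).obj F).obj.map
          ((EtCoh.bc h).map (resK U V a ha k') ≫ EtFound.bcSquare c.w (res V W')).op (up e F _ x) := by
    intro E' W' k' x
    rw [NatTrans.naturality_apply, baseChange0Sh_up]
    show ((EtDesc.pullSh e).obj F).obj.map ((EtCoh.bc h).map (resK U V a ha k')).op _ = _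
    rw [mapF]
  have hβi' : ∀ {E' : U.left.Etale} {W' : V.left.Etale} (k' : E' ⟶ (EtCoh.bc a).obj W')
      (z : ToType (((EtDesc.pullSh ti).obj F).obj.obj (op ((EtCoh.bc gi).obj W')))),
      βi.hom.app (op E') (((EtDesc.pullSh a).obj ((EtDesc.pushSh gi).obj ((EtDesc.pullSh ti).obj F))).obj.map k'.op
          (up a _ W' z)) =
        ((EtDesc.pullSh ei).obj ((EtDesc.pullSh ti).obj F)).obj.map
          ((EtCoh.bc hi).map k' ≫ EtFound.bcSquare cY.w W').op (up ei _ _ z) := by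
    intro E' W' k' z
    rw [NatTrans.naturality_apply, baseChange0Sh_up]
    show ((EtDesc.pullSh ei).obj ((EtDesc.pullSh ti).obj F)).obj.map ((EtCoh.bc hi).map k').op _ = _
    rw [mapF]
  constructor
  · intro c₁ c₂ hc
    obtain ⟨W₁, w₁, x₁, hx₁, -⟩ := exists_up_germ f (η := ξ ≫ f) rfl _ c₁
    obtain ⟨W₂, w₂, x₂, hx₂, -⟩ := exists_up_germ f (η := ξ ≫ f) rfl _ c₂
    let Φ := Scheme.pointSmallEtale (ξ ≫ f)
    obtain ⟨⟨W₀, w₀⟩, ⟨α₁, hα₁⟩, ⟨α₂, hα₂⟩, -⟩ := IsCofilteredOrEmpty.cone_objs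
      (Φ.fiber.elementsMk W₁ w₁) (Φ.fiber.elementsMk W₂ w₂)
    obtain ⟨⟨W, w⟩, ⟨α₀, hα₀⟩, ⟨μ, hμ⟩, -⟩ := IsCofilteredOrEmpty.cone_objs
      (Φ.fiber.elementsMk W₀ w₀) (Φ.fiber.elementsMk V v₀)
    obtain ⟨μ', hμ'⟩ : ∃ μ' : W ⟶ V, Φ.fiber.map μ' w = v₀ := ⟨μ, hμ⟩
    obtain ⟨r₁, hr₁⟩ : ∃ r : W ⟶ W₁, Φ.fiber.map r w = w₁ :=
      ⟨(show W ⟶ W₀ from α₀) ≫ α₁, by rw [Functor.map_comp_apply]; exact (congrArg (Φ.fiber.map (show W₀ ⟶ W₁ from α₁)) hα₀).trans hα₁⟩
    obtain ⟨r₂, hr₂⟩ : ∃ r : W ⟶ W₂, Φ.fiber.map r w = w₂ :=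
      ⟨(show W ⟶ W₀ from α₀) ≫ α₂, by rw [Functor.map_comp_apply]; exact (congrArg (Φ.fiber.map (show W₀ ⟶ W₂ from α₂)) hα₀).trans hα₂⟩
    haveI : Etale μ'.left := EtFound.etale_left μ'
    let W' : V.left.Etale := MorphismProperty.Over.mk ⊤ μ'.left inferInstance
    let i : res V W' ⟶ W := MorphismProperty.Over.homMk (𝟙 W.left)
      ((Category.id_comp _).trans (MorphismProperty.Over.w μ').symm)
    let w' : Φ.fiber.obj (res V W') := CategoryTheory.Over.homMk (w.left : Spec (CommRingCat.of Ω) ⟶ W.left)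
      ((congrArg ((w.left : Spec (CommRingCat.of Ω) ⟶ W.left) ≫ ·) (MorphismProperty.Over.w μ')).trans (CategoryTheory.Over.w w))
    have hi' : Φ.fiber.map i w' = w := fib_ext (Category.comp_id _)
    let y₁ := ((EtDesc.pushSh g).obj F).obj.map (i ≫ r₁).op x₁
    let y₂ := ((EtDesc.pushSh g).obj F).obj.map (i ≫ r₂).op x₂
    let A := (EtDesc.pullSh f).obj ((EtDesc.pushSh g).obj F)
    have hg₁ : c₁ = germ A ξ ((EtCoh.bc f).obj (res V W')) (EtFound.liftPt f (η := ξ ≫ f) rfl w') (up f _ (res V W') y₁) := by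
      rw [hx₁, up_map, germ_map, EtFound.liftPt_map, Functor.map_comp_apply, hi', hr₁]
    have hg₂ : c₂ = germ A ξ ((EtCoh.bc f).obj (res V W')) (EtFound.liftPt f (η := ξ ≫ f) rfl w') (up f _ (res V W') y₂) := by
      rw [hx₂, up_map, germ_map, EtFound.liftPt_map, Functor.map_comp_apply, hi', hr₂]
    let u' : (Scheme.pointSmallEtale (ξ' ≫ a)).fiber.obj W' := CategoryTheory.Over.homMk (w.left : Spec (CommRingCat.of Ω) ⟶ W.left)
      (congrArg (fun k : Φ.fiber.obj V => (k.left : Spec (CommRingCat.of Ω) ⟶ V.left)) hμ')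
    let E₀ := (EtCoh.bc a).obj W'
    let l₀ := EtFound.liftPt a (η := ξ' ≫ a) rfl u'
    let K := resK U V a ha (𝟙 E₀)
    have hl₀ : (Scheme.pointSmallEtale ξ).fiber.map K (resPt U l₀) = EtFound.liftPt f (η := ξ ≫ f) rfl w' := by
      refine fib_ext (pullback.hom_ext ?_ ?_)
      · refine (Category.assoc _ _ _).trans ((congrArg (_ ≫ ·) (resK_fst U V a ha (𝟙 E₀))).trans ?_)
        refine (congrArg (_ ≫ ·) (Category.id_comp _)).trans ?_
        exact (EtFound.liftPt_fst a (η := ξ' ≫ a) rfl u').trans (EtFound.liftPt_fst f (η := ξ ≫ f) rfl w').symm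
      · refine (Category.assoc _ _ _).trans ((congrArg (_ ≫ ·) (MorphismProperty.Over.w K)).trans ?_)
        exact (CategoryTheory.Over.w (resPt U l₀)).trans (pullback.lift_snd _ _ _).symm
    rw [← hl₀, ← germ_map] at hg₁ hg₂
    rw [hg₁, hg₂, germ_natural, germ_natural, hβ, hβ] at hc
    obtain ⟨E₂, l, e₂, hle, hE⟩ := ((Scheme.pointSmallEtale ξ).toPresheafFiber_eq_iff'
      (P := ((EtDesc.pushSh h).obj ((EtDesc.pullSh e).obj F)).obj) (res U E₀) (resPt U l₀) _ _).1 hc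
    haveI : Etale l.left := EtFound.etale_left l
    let E' : U.left.Etale := MorphismProperty.Over.mk ⊤ (l.left ≫ E₀.hom) (by
      haveI : Etale E₀.hom := E₀.prop
      exact inferInstanceAs (Etale (l.left ≫ E₀.hom)))
    let k' : E' ⟶ E₀ := MorphismProperty.Over.homMk l.left rfl
    let j : res U E' ⟶ E₂ := MorphismProperty.Over.homMk (𝟙 E₂.left)
      ((Category.id_comp _).trans ((MorphismProperty.Over.w l).symm.trans (Category.assoc _ _ _).symm))
    have hkl : resMap U k' = j ≫ l := MorphismProperty.Over.Hom.ext (Category.id_comp _).symm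
    have hE' := congrArg (((EtDesc.pullSh e).obj F).obj.map ((EtCoh.bc h).map j).op) hE
    change ((EtDesc.pullSh e).obj F).obj.map _ (((EtDesc.pullSh e).obj F).obj.map ((EtCoh.bc h).map l).op _) =
      ((EtDesc.pullSh e).obj F).obj.map _ (((EtDesc.pullSh e).obj F).obj.map ((EtCoh.bc h).map l).op _) at hE'
    have hcomb : ∀ y, ((EtDesc.pullSh e).obj F).obj.map ((EtCoh.bc h).map j).op
        (((EtDesc.pullSh e).obj F).obj.map ((EtCoh.bc h).map l).op y) =
          ((EtDesc.pullSh e).obj F).obj.map ((EtCoh.bc h).map (resMap U k')).op y := fun y => by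
      rw [← Functor.map_comp_apply, ← op_comp, ← Functor.map_comp, hkl]
    rw [hcomb, hcomb] at hE'
    have hE'' := congrArg (theta F U q sqY hqe E') hE'
    rw [← theta_natural, ← theta_natural, theta_key c F U V a ha cT cY, theta_key c F U V a ha cT cY,
      psi'_natural, psi'_natural] at hE''
    have hz := (psi'_bijective F U E').1 hE''
    rw [← hβi' (𝟙 E₀), ← hβi' (𝟙 E₀)] at hz
    have idA : ∀ v, ((EtDesc.pullSh a).obj ((EtDesc.pushSh gi).obj ((EtDesc.pullSh ti).obj F))).obj.map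
        (𝟙 E₀ : E₀ ⟶ (EtCoh.bc a).obj W').op v = v := fun v => by
      show ((EtDesc.pullSh a).obj ((EtDesc.pushSh gi).obj ((EtDesc.pullSh ti).obj F))).obj.map (𝟙 (op E₀)) v = v
      simp
    rw [idA, idA] at hz
    obtain ⟨e', he'⟩ : ∃ e' : (Scheme.pointSmallEtale ξ').fiber.obj E',
        (Scheme.pointSmallEtale ξ').fiber.map k' e' = l₀ :=
      ⟨CategoryTheory.Over.homMk (e₂.left : Spec (CommRingCat.of Ω) ⟶ E₂.left)
        ((Category.assoc _ _ _).symm.trans ((congrArg (· ≫ E₀.hom)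
          (congrArg (fun k : (Scheme.pointSmallEtale ξ).fiber.obj (res U E₀) => (k.left : Spec (CommRingCat.of Ω) ⟶ E₀.left)) hle)).trans
            (CategoryTheory.Over.w l₀))),
        fib_ext (congrArg (fun k : (Scheme.pointSmallEtale ξ).fiber.obj (res U E₀) => (k.left : Spec (CommRingCat.of Ω) ⟶ E₀.left)) hle)⟩
    let Bi := (EtDesc.pushSh hi).obj ((EtDesc.pullSh ei).obj ((EtDesc.pullSh ti).obj F))
    let Ai := (EtDesc.pullSh a).obj ((EtDesc.pushSh gi).obj ((EtDesc.pullSh ti).obj F))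
    have hgerm : germ Ai ξ' E₀ l₀ (up a _ W' (resSec V cT F W' y₁)) = germ Ai ξ' E₀ l₀ (up a _ W' (resSec V cT F W' y₂)) := by
      refine hβi.1 ?_
      rw [germ_natural, germ_natural, ← he', ← germ_map, ← germ_map]
      exact congrArg (germ Bi ξ' E' e') hz
    have hgerm' := congrArg (stI a ξ' _) hgerm
    rw [stI_germ, stI_germ] at hgerm'
    obtain ⟨W₃, r, u₃, hru, hr⟩ := ((Scheme.pointSmallEtale (ξ' ≫ a)).toPresheafFiber_eq_iff'
      (P := ((EtDesc.pushSh gi).obj ((EtDesc.pullSh ti).obj F)).obj) W'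
      (EtFound.bcFiberEquiv a ξ' W' l₀) _ _).1 hgerm'
    change ((EtDesc.pullSh ti).obj F).obj.map ((EtCoh.bc gi).map r).op _ =
      ((EtDesc.pullSh ti).obj F).obj.map ((EtCoh.bc gi).map r).op _ at hr
    rw [resSec_natural, resSec_natural] at hr
    have hy : ((EtDesc.pushSh g).obj F).obj.map (resMap V r).op y₁ = ((EtDesc.pushSh g).obj F).obj.map (resMap V r).op y₂ :=
      (resSec_bijective V cT F W₃).1 hr
    obtain ⟨w₃, hw₃⟩ : ∃ w₃, Φ.fiber.map (resMap V r) w₃ = w' :=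
      ⟨CategoryTheory.Over.homMk (u₃.left : Spec (CommRingCat.of Ω) ⟶ W₃.left)
        ((Category.assoc _ _ _).symm.trans ((congrArg (· ≫ V.hom) (CategoryTheory.Over.w u₃)).trans (CategoryTheory.Over.w v₀))),
        fib_ext ((congrArg (fun k : (Scheme.pointSmallEtale (ξ' ≫ a)).fiber.obj W' => (k.left : Spec (CommRingCat.of Ω) ⟶ W.left)) hru).trans
          ((bcFiberEquiv_left a ξ' W' l₀).trans (EtFound.liftPt_fst a (η := ξ' ≫ a) rfl u')))⟩
    rw [hg₁, hg₂, germ_map, germ_map, hl₀, ← hw₃, ← EtFound.liftPt_map, ← germ_map, ← germ_map, ← up_map, ← up_map, hy]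
  · intro d
    let B := (EtDesc.pushSh h).obj ((EtDesc.pullSh e).obj F)
    obtain ⟨E, u, y₀, rfl⟩ := germ_surjective B ξ d
    let E₁ : U.left.Etale := (EtCoh.bc U.hom).obj E
    let p : res U E₁ ⟶ E := MorphismProperty.Over.homMk (pullback.fst E.hom U.hom) pullback.condition
    let u₁ : (Scheme.pointSmallEtale ξ').fiber.obj E₁ := EtFound.liftPt U.hom (η := ξ) rfl u
    have hp : (Scheme.pointSmallEtale ξ).fiber.map p (resPt U u₁) = u := fib_ext (EtFound.liftPt_fst U.hom (η := ξ) rfl u)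
    let y := B.obj.map p.op y₀
    obtain ⟨y', hy'⟩ := (psi'_bijective F U (ti := ti) (hi := hi) (ei := ei) E₁).2 (theta F U q sqY hqe E₁ y)
    let Bi := (EtDesc.pushSh hi).obj ((EtDesc.pullSh ei).obj ((EtDesc.pullSh ti).obj F))
    obtain ⟨ci, hci⟩ := hβi.2 (germ Bi ξ' E₁ u₁ y')
    obtain ⟨W', w', z, hz, -⟩ := exists_up_germ a (η := ξ' ≫ a) rfl _ ci
    obtain ⟨x, hx⟩ := (resSec_bijective V cT F W').2 z
    rw [hz, germ_natural] at hci
    obtain ⟨⟨E₀, t₀⟩, ⟨γ, hγ⟩, ⟨δ, hδ⟩, -⟩ := IsCofilteredOrEmpty.cone_objs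
      ((Scheme.pointSmallEtale ξ').fiber.elementsMk ((EtCoh.bc a).obj W') (EtFound.liftPt a (η := ξ' ≫ a) rfl w'))
      ((Scheme.pointSmallEtale ξ').fiber.elementsMk E₁ u₁)
    obtain ⟨γ', hγ'⟩ : ∃ γ' : E₀ ⟶ (EtCoh.bc a).obj W',
        (Scheme.pointSmallEtale ξ').fiber.map γ' t₀ = EtFound.liftPt a (η := ξ' ≫ a) rfl w' := ⟨γ, hγ⟩
    obtain ⟨δ', hδ'⟩ : ∃ δ' : E₀ ⟶ E₁, (Scheme.pointSmallEtale ξ').fiber.map δ' t₀ = u₁ := ⟨δ, hδ⟩
    rw [← hγ', ← hδ', ← germ_map, ← germ_map] at hci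
    obtain ⟨E', r, t, hrt, hr⟩ := ((Scheme.pointSmallEtale ξ').toPresheafFiber_eq_iff' (P := Bi.obj) E₀ t₀ _ _).1 hci
    rw [← Functor.map_comp_apply, ← Functor.map_comp_apply, ← op_comp, ← op_comp, ← NatTrans.naturality_apply, hβi'] at hr
    change _ = ((EtDesc.pullSh ei).obj ((EtDesc.pullSh ti).obj F)).obj.map ((EtCoh.bc hi).map (r ≫ δ')).op y' at hr
    let K := resK U V a ha (r ≫ γ')
    let t' := resPt U t
    let A := (EtDesc.pullSh f).obj ((EtDesc.pushSh g).obj F)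
    refine ⟨germ A ξ (res U E') t' (A.obj.map K.op (up f _ (res V W') x)), ?_⟩
    rw [germ_natural, hβ]
    have hfin : ((EtDesc.pullSh e).obj F).obj.map ((EtCoh.bc h).map K ≫ EtFound.bcSquare c.w (res V W')).op (up e F _ x) =
        ((EtDesc.pullSh e).obj F).obj.map ((EtCoh.bc h).map (resMap U (r ≫ δ'))).op y := by
      refine (theta_bijective F U q sqY hqe E').1 ?_
      rw [theta_key c F U V a ha cT cY, ← theta_natural, ← hy', psi'_natural, hx, hr]
    refine (congrArg (germ B ξ (res U E') t') hfin).trans ?_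
    show germ B ξ (res U E') t' (B.obj.map (resMap U (r ≫ δ')).op y) = _
    rw [germ_map, germ_map]
    refine congrArg (fun s => germ B ξ E s y₀) (fib_ext ?_)
    refine Eq.trans ?_ (congrArg (fun k : (Scheme.pointSmallEtale ξ).fiber.obj E => (k.left : Spec (CommRingCat.of Ω) ⟶ E.left)) hp)
    show ((t.left : Spec (CommRingCat.of Ω) ⟶ E'.left) ≫ (r ≫ δ').left) ≫ p.left = (u₁.left : Spec (CommRingCat.of Ω) ⟶ E₁.left) ≫ p.left
    refine congrArg (· ≫ p.left) ?_
    rw [← hδ', ← hrt]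
    exact (Category.assoc _ _ _).symm

end piece

theorem isIso_baseChange0Sh_of_pieces {ι : Type u} (U : ι → X.Etale) (hU : EtCoh.Covers U) (V : ι → S.Etale)
    (a : ∀ i, (U i).left ⟶ (V i).left) (ha : ∀ i, a i ≫ (V i).hom = (U i).hom ≫ f)
    (Ti Yi : ι → Scheme.{u}) (gi : ∀ i, Ti i ⟶ (V i).left) (ti : ∀ i, Ti i ⟶ T)
    (cT : ∀ i, IsPullback (ti i) (gi i) g (V i).hom)
    (hi : ∀ i, Yi i ⟶ (U i).left) (ei : ∀ i, Yi i ⟶ Ti i) (cY : ∀ i, IsPullback (ei i) (hi i) (gi i) (a i))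
    (hloc : ∀ i, IsIso (EtBC.baseChange0Sh (gi i) (a i) (hi i) (ei i) (cY i).w ((EtDesc.pullSh (ti i)).obj F))) :
    IsIso (EtBC.baseChange0Sh g f h e c.w F) := by
  refine EtFound.isIso_of_stalks _ fun Ω _ _ ξ => ?_
  obtain ⟨i, y, hy⟩ := hU (ξ.base (default : Spec (CommRingCat.of Ω)))
  haveI : Etale (U i).hom := (U i).prop
  obtain ⟨ξ', rfl, -⟩ := Scheme.exists_fac_of_etale_of_isSepClosed (U i).hom ξ y hy
  have hbig : IsPullback (ei i ≫ ti i) (hi i) g ((U i).hom ≫ f) := by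
    rw [← ha i]
    exact (cY i).paste_horiz (cT i)
  let q : Yi i ⟶ Y := c.lift (ei i ≫ ti i) (hi i ≫ (U i).hom) (by rw [hbig.w, Category.assoc])
  have hqe : q ≫ e = ei i ≫ ti i := c.lift_fst _ _ _
  have sqY : IsPullback q (hi i) h (U i).hom := IsPullback.of_right (by rw [hqe]; exact hbig) (c.lift_snd _ _ _) c
  exact bijective_stalk_piece c F (U i) (V i) (a i) (ha i) (cT i) (cY i) q sqY hqe (hloc i) ξ'

end Groth.Agent.EtBCLoc
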