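import Groth.Agent.EtPBC0.ZeroAcyc
import Groth.Agent.EtPBC0.BaseChange
import Groth.Agent.EtFound.Detect

/-!
# Base change in degree zero from covers by geometrically connected pieces
-/

set_option autoImplicit false
set_option linter.style.haveILetI false

universe u

open CategoryTheory CategoryTheory.Limits AlgebraicGeometry Opposite TopologicalSpace
open Groth.Agent.BigSiteLib.DescSec Groth.Agent.EtH0Lib Groth.Agent.EtPBC0

namespace Groth.Agent.EtBCLoc

set_option backward.isDefEq.respectTransparency false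
set_option backward.isDefEq.respectTransparency.types false

variable {X S : Scheme.{u}} (f : X ⟶ S)

/-- Flatness passes to a factor through an etale morphism. -/
theorem flat_of_comp_etale {U V : Scheme.{u}} (a : U ⟶ V) (v : V ⟶ S) [Etale v] [Flat (a ≫ v)] : Flat a := by
  let l : U ⟶ pullback v (a ≫ v) := pullback.lift a (𝟙 U) (Category.id_comp _).symm
  haveI : Etale (pullback.snd v (a ≫ v)) := MorphismProperty.pullback_snd (P := @Etale) _ _ inferInstance
  haveI : Etale (l ≫ pullback.snd v (a ≫ v)) := by rw [pullback.lift_snd]; infer_instance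
  haveI : Etale l := Etale.of_comp l (pullback.snd v (a ≫ v))
  rw [show a = l ≫ pullback.fst v (a ≫ v) from (pullback.lift_fst _ _ _).symm]
  haveI : Flat (pullback.fst v (a ≫ v)) := MorphismProperty.pullback_fst (P := @Flat) _ _ inferInstance
  infer_instance

/-- Sections pulled back along a quasi-compact flat morphism with connected geometric fibres. -/
theorem bijective_pullSec (G : EtDesc.Sh S) (U : X.Etale) (V : S.Etale) (m : U ⟶ (EtCoh.bc f).obj V)
    [Flat (m.left ≫ pullback.fst V.hom f)] [QuasiCompact (m.left ≫ pullback.fst V.hom f)]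
    [GeometricallyConnected (m.left ≫ pullback.fst V.hom f)] :
    Function.Bijective fun x : ToType (G.obj.obj (op V)) => ((EtDesc.pullSh f).obj G).obj.map m.op (up f G V x) := by
  let a := m.left ≫ pullback.fst V.hom f
  have w : a ≫ V.hom = U.hom ≫ f := by
    refine (Category.assoc _ _ _).trans ((congrArg (m.left ≫ ·) pullback.condition).trans ?_)
    exact (Category.assoc _ _ _).symm.trans (congrArg (· ≫ f) (MorphismProperty.Over.w m))
  haveI : Surjective a := ⟨fun z => by
    let τ := V.left.fromSpecResidueField z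
    haveI := GeometricallyConnected.geometrically_connectedSpace (f := a) _ _ _ (.of_hasPullback a τ)
    obtain ⟨p⟩ := (inferInstance : Nonempty ↥(pullback a τ))
    refine ⟨pullback.fst a τ p, ?_⟩
    rw [← Scheme.Hom.comp_apply, pullback.condition, Scheme.Hom.comp_apply]
    exact Scheme.fromSpecResidueField_apply _ _⟩
  have hsec : Function.Bijective (EtDesc.secPull a ((EtDesc.pullSh V.hom).obj G)) :=
    bijective_secPull_of_connected_fibres a (isUnivSubmersive_of_flat a)
      (fun L _ _ s => GeometricallyConnected.geometrically_connectedSpace (f := a) _ _ _ (.of_hasPullback a s)) _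
  refine bijective_of_square _ (atPt U.hom ((EtDesc.pullSh f).obj G) U (𝟙 _) (Category.id_comp _))
    ((EtDesc.pullVia U.hom f (U.hom ≫ f) rfl G).hom.hom.app (op (EtCoh.top _)))
    (atPt V.hom G V (𝟙 _) (Category.id_comp _)) (tau a V.hom (U.hom ≫ f) w)
    (bijective_atPt_self ((EtDesc.pullSh f).obj G) U) (bijective_pullVia U.hom f (U.hom ≫ f) rfl G)
    (bijective_atPt_self G V) (bijective_tau a V.hom (U.hom ≫ f) w G hsec) fun x => ?_
  rw [tau_atPt a V.hom (U.hom ≫ f) w G V (𝟙 _) (Category.id_comp _) a w (Category.comp_id _) x,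
    atPt_map U.hom ((EtDesc.pullSh f).obj G) m (𝟙 _) (Category.id_comp _) m.left (MorphismProperty.Over.w m)
      (Category.id_comp _) (up f G V x)]
  refine pullVia_map_up U.hom f (U.hom ≫ f) rfl G V x _ a w ?_
  exact (Category.assoc _ _ _).symm.trans
    (congrArg (· ≫ pullback.fst V.hom f) (secHom_fst U.hom ((EtCoh.bc f).obj V) m.left (MorphismProperty.Over.w m)))

/-- A morphism of sheaves bijective on a cofinal system of etale schemes is an isomorphism. -/
theorem isIso_of_covers {A B : EtDesc.Sh X} (β : A ⟶ B) (Good : X.Etale → Prop)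
    (hb : ∀ U, Good U → Function.Bijective (β.hom.app (op U)))
    (hc : ∀ (U : X.Etale) (y : U.left), ∃ (E : X.Etale) (m : E ⟶ U) (e : E.left), Good E ∧ m.left e = y) :
    IsIso β := by
  refine EtFound.isIso_of_stalks β fun Ω _ _ ξ => ⟨fun c₁ c₂ h => ?_, fun c => ?_⟩
  · obtain ⟨U, u, a, b, rfl, rfl⟩ := (Scheme.pointSmallEtale ξ).toPresheafFiber_jointly_surjective₂ (P := A.obj) c₁ c₂
    replace h : germ B ξ U u (β.hom.app (op U) a) = germ B ξ U u (β.hom.app (op U) b) := by
      rw [← germ_natural, ← germ_natural]; exact h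
    obtain ⟨W, k, w, hk, hE⟩ := ((Scheme.pointSmallEtale ξ).toPresheafFiber_eq_iff' (P := B.obj) U u _ _).1 h
    obtain ⟨E, m, e, hE', he⟩ := hc W ((w.left : Spec (CommRingCat.of Ω) ⟶ W.left).base (default : Spec (CommRingCat.of Ω)))
    obtain ⟨t, ht, -⟩ := EtFound.exists_lift_point m w e he
    have hab : A.obj.map (m ≫ k).op a = A.obj.map (m ≫ k).op b := by
      refine (hb E hE').1 ?_
      rw [NatTrans.naturality_apply, NatTrans.naturality_apply, op_comp, Functor.map_comp_apply, Functor.map_comp_apply]
      exact congrArg (B.obj.map m.op) hE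
    have hfib : (Scheme.pointSmallEtale ξ).fiber.map (m ≫ k) t = u := by rw [Functor.map_comp_apply, ht, hk]
    show germ A ξ U u a = germ A ξ U u b
    rw [← hfib, ← germ_map, ← germ_map, hab]
  · obtain ⟨U, u, y, rfl⟩ := germ_surjective B ξ c
    obtain ⟨E, m, e, hE, he⟩ := hc U ((u.left : Spec (CommRingCat.of Ω) ⟶ U.left).base (default : Spec (CommRingCat.of Ω)))
    obtain ⟨t, ht, -⟩ := EtFound.exists_lift_point m u e he
    obtain ⟨x, hx⟩ := (hb E hE).2 (B.obj.map m.op y)
    refine ⟨germ A ξ E t x, ?_⟩
    rw [germ_natural, hx, germ_map, ht]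

variable {Y T : Scheme.{u}} (g : T ⟶ S) (h : Y ⟶ X) (e : Y ⟶ T)

/-- The etale schemes with a quasi-compact geometrically connected map to an etale scheme over the base. -/
def Connected (U : X.Etale) : Prop :=
  ∃ (V : S.Etale) (a : U.left ⟶ V.left), a ≫ V.hom = U.hom ≫ f ∧ QuasiCompact a ∧ GeometricallyConnected a

theorem bijective_baseChange_of_connected [Flat f] (c : IsPullback e h g f) (F : EtDesc.Sh T) {U : X.Etale}
    (hU : Connected f U) : Function.Bijective ((EtBC.baseChange0Sh g f h e c.w F).hom.app (op U)) := by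
  obtain ⟨V, a, w, hqc, hgc⟩ := hU
  let m : U ⟶ (EtCoh.bc f).obj V := MorphismProperty.Over.homMk (pullback.lift a U.hom w) (pullback.lift_snd _ _ _)
  have hm : m.left ≫ pullback.fst V.hom f = a := pullback.lift_fst _ _ _
  haveI : Etale V.hom := V.prop
  haveI : Etale U.hom := U.prop
  haveI : Flat (a ≫ V.hom) := by rw [w]; infer_instance
  haveI := flat_of_comp_etale a V.hom
  haveI : Flat (m.left ≫ pullback.fst V.hom f) := hm.symm ▸ ‹Flat a›
  haveI : QuasiCompact (m.left ≫ pullback.fst V.hom f) := hm.symm ▸ hqc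
  haveI : GeometricallyConnected (m.left ≫ pullback.fst V.hom f) := hm.symm ▸ hgc
  let m' : (EtCoh.bc h).obj U ⟶ (EtCoh.bc e).obj ((EtCoh.bc g).obj V) :=
    (EtCoh.bc h).map m ≫ EtFound.bcSquare c.w V
  let a' := m'.left ≫ pullback.fst ((EtCoh.bc g).obj V).hom e
  have ha₁ : a' ≫ pullback.fst V.hom g = pullback.fst U.hom h ≫ a := by
    show ((((EtCoh.bc h).map m).left ≫ (EtFound.bcSquare c.w V).left) ≫ _) ≫ _ = _
    simp only [Category.assoc]
    refine (congrArg (((EtCoh.bc h).map m).left ≫ ·) (EtFound.bcSquare_fst c.w V)).trans ?_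
    refine (Category.assoc _ _ _).symm.trans ((congrArg (· ≫ pullback.fst V.hom f)
      (pullback.lift_fst _ _ _)).trans ((Category.assoc _ _ _).trans ?_))
    exact congrArg (pullback.fst U.hom h ≫ ·) hm
  have ha₂ : a' ≫ pullback.snd V.hom g = pullback.snd U.hom h ≫ e := by
    refine (Category.assoc _ _ _).trans ?_
    refine (congrArg (m'.left ≫ ·) (pullback.condition (f := ((EtCoh.bc g).obj V).hom) (g := e))).trans ?_
    exact (Category.assoc _ _ _).symm.trans (congrArg (· ≫ e) (MorphismProperty.Over.w m'))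
  have sq : IsPullback (pullback.fst U.hom h) a' a (pullback.fst V.hom g) := by
    refine IsPullback.of_bot ?_ ha₁.symm (IsPullback.of_hasPullback V.hom g)
    rw [ha₂, w]
    exact (IsPullback.of_hasPullback U.hom h).paste_vert c.flip
  haveI : Flat a' := MorphismProperty.of_isPullback (P := @Flat) sq ‹Flat a›
  haveI : QuasiCompact a' := MorphismProperty.of_isPullback (P := @QuasiCompact) sq hqc
  haveI : GeometricallyConnected a' := MorphismProperty.of_isPullback (P := @GeometricallyConnected) sq hgc
  let β := EtBC.baseChange0Sh g f h e c.w F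
  have h₁ := bijective_pullSec f ((EtDesc.pushSh g).obj F) U V m
  have h₂ := bijective_pullSec e F ((EtCoh.bc h).obj U) ((EtCoh.bc g).obj V) m'
  have key : ∀ x, β.hom.app (op U) (((EtDesc.pullSh f).obj ((EtDesc.pushSh g).obj F)).obj.map m.op (up f _ V x)) =
      ((EtDesc.pullSh e).obj F).obj.map m'.op (up e F ((EtCoh.bc g).obj V) x) := by
    intro x
    rw [NatTrans.naturality_apply, baseChange0Sh_up]
    show ((EtDesc.pullSh e).obj F).obj.map ((EtCoh.bc h).map m).op _ = _
    rw [mapF]
  exact (Function.Bijective.of_comp_iff (β.hom.app (op U)) h₁).1 (by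
    rw [show (β.hom.app (op U)) ∘ (fun x => ((EtDesc.pullSh f).obj ((EtDesc.pushSh g).obj F)).obj.map m.op (up f _ V x)) =
      fun x => ((EtDesc.pullSh e).obj F).obj.map m'.op (up e F ((EtCoh.bc g).obj V) x) from funext key]
    exact h₂)

theorem isIso_baseChange0Sh_of_connected [Flat f] (c : IsPullback e h g f) (F : EtDesc.Sh T)
    (hcov : ∀ (U : X.Etale) (y : U.left), ∃ (E : X.Etale) (m : E ⟶ U) (z : E.left), Connected f E ∧ m.left z = y) :
    IsIso (EtBC.baseChange0Sh g f h e c.w F) :=
  isIso_of_covers _ (Connected f) (fun _ hU => bijective_baseChange_of_connected f g h e c F hU) hcov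

end Groth.Agent.EtBCLoc
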