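import Groth.Agent.EtBCLoc.Cover
import Groth.Agent.RGLib.DescRefine

/-!
# Restriction of base change to etale pieces
-/

set_option autoImplicit false
set_option linter.style.haveILetI false

universe u

open CategoryTheory CategoryTheory.Limits AlgebraicGeometry Opposite TopologicalSpace
open Groth.Agent.BigSiteLib.DescSec Groth.Agent.EtH0Lib Groth.Agent.EtPBC0

namespace Groth.Agent.EtBCLoc

set_option backward.isDefEq.respectTransparency false
set_option backward.isDefEq.respectTransparency.types false

theorem geometricallyConnected_of_isIso {A B : Scheme.{u}} (a : A ⟶ B) [IsIso a] : GeometricallyConnected a := by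
  refine ⟨fun K _ y Z fst snd h => ?_⟩
  haveI : IsIso snd := h.isIso_snd_of_isIso
  exact snd.homeomorph.connectedSpace_iff.2 inferInstance

/-- Two successive pullbacks of a section, along a morphism of etale schemes. -/
theorem pullVia_map_up_gen {X S T : Scheme.{u}} (g : T ⟶ S) (a : S ⟶ X) (b : T ⟶ X) (w : g ≫ a = b) (F : EtDesc.Sh X)
    (W : X.Etale) {D : T.Etale} (m : D ⟶ (EtCoh.bc g).obj ((EtCoh.bc a).obj W)) (m₀ : D ⟶ (EtCoh.bc b).obj W)
    (hm : m₀.left ≫ pullback.fst W.hom b =
      m.left ≫ pullback.fst ((EtCoh.bc a).obj W).hom g ≫ pullback.fst W.hom a)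
    (x : F.obj.obj (op W)) :
    (EtDesc.pullVia g a b w F).hom.hom.app (op D)
        (((EtDesc.pullSh g).obj ((EtDesc.pullSh a).obj F)).obj.map m.op (up g ((EtDesc.pullSh a).obj F) _ (up a F W x))) =
      ((EtDesc.pullSh b).obj F).obj.map m₀.op (up b F W x) := by
  haveI := isIso_viaC g a b w W
  let m₁ := m ≫ inv (viaC g a b w W)
  have e : m = m₁ ≫ viaC g a b w W := by
    rw [Category.assoc, IsIso.inv_hom_id, Category.comp_id]
  have h₂ : m.left = m₁.left ≫ (viaC g a b w W).left := congrArg (fun k : D ⟶ _ => k.left) e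
  have e₂ : m₀ = m₁ := by
    refine MorphismProperty.Over.Hom.ext (pullback.hom_ext ?_ ?_)
    · rw [hm, h₂, ← (viaC_left g a b w W).1]
      simp only [Category.assoc]
    · exact (MorphismProperty.Over.w m₀).trans (MorphismProperty.Over.w m₁).symm
  rw [e, ← mapF, NatTrans.naturality_apply, e₂]
  exact congrArg (((EtDesc.pullSh b).obj F).obj.map m₁.op) (unit_viaC g a b w F W x)

section res

variable {S T Ti : Scheme.{u}}

/-- An etale scheme over a piece, as an etale scheme over the base. -/
noncomputable abbrev res (V : S.Etale) (W' : V.left.Etale) : S.Etale :=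
  MorphismProperty.Over.mk ⊤ (W'.hom ≫ V.hom) (by
    haveI : Etale V.hom := V.prop
    haveI : Etale W'.hom := W'.prop
    exact inferInstanceAs (Etale (W'.hom ≫ V.hom)))

/-- Its functoriality. -/
noncomputable abbrev resMap (V : S.Etale) {W₁ W₂ : V.left.Etale} (k : W₁ ⟶ W₂) : res V W₁ ⟶ res V W₂ :=
  MorphismProperty.Over.homMk k.left
    ((Category.assoc _ _ _).symm.trans (congrArg (· ≫ V.hom) (MorphismProperty.Over.w k)))

/-- The projection to the structure of the piece. -/
noncomputable abbrev resTo (V : S.Etale) (W' : V.left.Etale) : res V W' ⟶ V :=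
  MorphismProperty.Over.homMk W'.hom rfl

variable {g : T ⟶ S} (V : S.Etale) {gi : Ti ⟶ V.left} {t : Ti ⟶ T} (sq : IsPullback t gi g V.hom)

include sq in
theorem resFst_cond (W' : V.left.Etale) :
    pullback.fst W'.hom gi ≫ W'.hom ≫ V.hom = (pullback.snd W'.hom gi ≫ t) ≫ g := by
  rw [← Category.assoc, pullback.condition, Category.assoc, Category.assoc, sq.w]

/-- The comparison of the two base changes. -/
noncomputable def resFst (W' : V.left.Etale) :
    ((EtCoh.bc gi).obj W').left ⟶ ((EtCoh.bc g).obj (res V W')).left :=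
  pullback.lift (pullback.fst W'.hom gi) (pullback.snd W'.hom gi ≫ t) (resFst_cond V sq W')

theorem resFst_fst (W' : V.left.Etale) :
    resFst V sq W' ≫ pullback.fst (res V W').hom g = pullback.fst W'.hom gi := pullback.lift_fst _ _ _

theorem resFst_snd (W' : V.left.Etale) :
    resFst V sq W' ≫ pullback.snd (res V W').hom g = pullback.snd W'.hom gi ≫ t := pullback.lift_snd _ _ _

theorem isIso_resFst (W' : V.left.Etale) : IsIso (resFst V sq W') := by
  have h := (IsPullback.of_hasPullback W'.hom gi).paste_vert sq.flip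
  have e : resFst V sq W' = h.isoPullback.hom := by
    refine pullback.hom_ext ?_ ?_
    · exact (resFst_fst V sq W').trans h.isoPullback_hom_fst.symm
    · exact (resFst_snd V sq W').trans h.isoPullback_hom_snd.symm
  rw [e]
  infer_instance

/-- The same as a morphism of etale schemes over the piece. -/
noncomputable def resJ (W' : V.left.Etale) :
    (EtCoh.bc gi).obj W' ⟶ (EtCoh.bc t).obj ((EtCoh.bc g).obj (res V W')) :=
  MorphismProperty.Over.homMk (pullback.lift (resFst V sq W') (pullback.snd W'.hom gi) (resFst_snd V sq W'))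
    (pullback.lift_snd _ _ _)

theorem resJ_fst (W' : V.left.Etale) :
    (resJ V sq W').left ≫ pullback.fst ((EtCoh.bc g).obj (res V W')).hom t = resFst V sq W' :=
  pullback.lift_fst _ _ _

/-- Sections over the total base change, as sections of the pulled back sheaf. -/
noncomputable def resSec (G : EtDesc.Sh T) (W' : V.left.Etale)
    (x : ToType (G.obj.obj (op ((EtCoh.bc g).obj (res V W'))))) :
    ((EtDesc.pullSh t).obj G).obj.obj (op ((EtCoh.bc gi).obj W')) :=
  ((EtDesc.pullSh t).obj G).obj.map (resJ V sq W').op (up t G _ x)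

theorem resSec_bijective (G : EtDesc.Sh T) (W' : V.left.Etale) : Function.Bijective (resSec V sq G W') := by
  haveI : IsIso ((resJ V sq W').left ≫ pullback.fst ((EtCoh.bc g).obj (res V W')).hom t) := by
    rw [resJ_fst]; exact isIso_resFst V sq W'
  haveI := geometricallyConnected_of_isIso ((resJ V sq W').left ≫ pullback.fst ((EtCoh.bc g).obj (res V W')).hom t)
  exact bijective_pullSec t G ((EtCoh.bc gi).obj W') ((EtCoh.bc g).obj (res V W')) (resJ V sq W')

theorem resJ_natural {W₁ W₂ : V.left.Etale} (k : W₁ ⟶ W₂) :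
    resJ V sq W₁ ≫ (EtCoh.bc t).map ((EtCoh.bc g).map (resMap V k)) = (EtCoh.bc gi).map k ≫ resJ V sq W₂ := by
  refine MorphismProperty.Over.Hom.ext (pullback.hom_ext ?_ ?_)
  · show ((resJ V sq W₁).left ≫ ((EtCoh.bc t).map ((EtCoh.bc g).map (resMap V k))).left) ≫ _ =
      (((EtCoh.bc gi).map k).left ≫ (resJ V sq W₂).left) ≫ _
    refine (Category.assoc _ _ _).trans ((congrArg ((resJ V sq W₁).left ≫ ·) (pullback.lift_fst _ _ _)).trans ?_)
    refine ((Category.assoc _ _ _).symm.trans (congrArg (· ≫ ((EtCoh.bc g).map (resMap V k)).left) (resJ_fst V sq W₁))).trans ?_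
    refine Eq.trans ?_ ((Category.assoc _ _ _).trans (congrArg (((EtCoh.bc gi).map k).left ≫ ·) (resJ_fst V sq W₂))).symm
    refine pullback.hom_ext ?_ ?_
    · refine (Category.assoc _ _ _).trans ((congrArg (resFst V sq W₁ ≫ ·) (pullback.lift_fst _ _ _)).trans ?_)
      refine ((Category.assoc _ _ _).symm.trans (congrArg (· ≫ k.left) (resFst_fst V sq W₁))).trans ?_
      refine Eq.trans ?_ ((Category.assoc _ _ _).trans (congrArg (((EtCoh.bc gi).map k).left ≫ ·) (resFst_fst V sq W₂))).symm
      exact (pullback.lift_fst _ _ _).symm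
    · refine (Category.assoc _ _ _).trans ((congrArg (resFst V sq W₁ ≫ ·) (pullback.lift_snd _ _ _)).trans ?_)
      refine (resFst_snd V sq W₁).trans ?_
      refine Eq.trans ?_ ((Category.assoc _ _ _).trans (congrArg (((EtCoh.bc gi).map k).left ≫ ·) (resFst_snd V sq W₂))).symm
      exact ((Category.assoc _ _ _).symm.trans (congrArg (· ≫ t) (pullback.lift_snd _ _ _))).symm
  · exact (MorphismProperty.Over.w (resJ V sq W₁ ≫ (EtCoh.bc t).map ((EtCoh.bc g).map (resMap V k)))).trans
      (MorphismProperty.Over.w ((EtCoh.bc gi).map k ≫ resJ V sq W₂)).symm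

theorem resSec_natural (G : EtDesc.Sh T) {W₁ W₂ : V.left.Etale} (k : W₁ ⟶ W₂)
    (x : ToType (G.obj.obj (op ((EtCoh.bc g).obj (res V W₂))))) :
    ((EtDesc.pullSh t).obj G).obj.map ((EtCoh.bc gi).map k).op (resSec V sq G W₂ x) =
      resSec V sq G W₁ (G.obj.map ((EtCoh.bc g).map (resMap V k)).op x) := by
  rw [resSec, resSec, mapF, up_map, mapF, resJ_natural]

end res

end Groth.Agent.EtBCLoc
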